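import Cfsg.Agent.Lib.Helper90.SmallOrder
import Cfsg.Agent.Lib.Helper11.AxB

set_option autoImplicit false

namespace Cfsg.Agent.Lib.Helper90

open Cfsg Cfsg.FusionSystem Cfsg.Agent.Lib.Helper87 Cfsg.Agent.Lib.Helper3
open scoped commutatorElement

/-- Every finite `p`-group `R` has a characteristic subgroup `D` all of whose elements have order
dividing `p` (dividing `4` if `p = 2`) on which every nontrivial `p'`-automorphism of `R` acts
nontrivially. -/
theorem exists_char_small {R : Type*} [Group R] [Finite R] {p : ℕ} [hp : Fact p.Prime]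
    (hR : IsPGroup p R) :
    ∃ D : Subgroup R, D.Characteristic ∧ (∀ x ∈ D, x ^ p = 1 ∨ (p = 2 ∧ x ^ 4 = 1)) ∧
      ∀ a : MulAut R, (orderOf a).Coprime p → (∀ x ∈ D, a x = x) → a = 1 := by
  obtain ⟨H, hHc, h1, h2, h3⟩ := Cfsg.Agent.S0093.result hR
  have hHp : IsPGroup p H := hR.to_subgroup H
  have hfc : frattini H ≤ Subgroup.center H := by
    intro x hx
    rw [Subgroup.mem_center_iff]
    intro g
    have := h1 ⟨x, hx, rfl⟩
    exact Subtype.ext (Subgroup.mem_centralizer_iff.mp this g g.2)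
  have hcl : ⁅commutator H, (⊤ : Subgroup H)⁆ = ⊥ :=
    class_two_of_commutator_le_center ((commutator_le_frattini hHp).trans hfc)
  have hcp : ∀ x y : H, ⁅y⁻¹, x⁻¹⁆ ^ p = 1 := by
    intro x y
    rw [← commutator_pow_left_class_two hcl, commutatorElement_eq_one_iff_mul_comm]
    exact (Subgroup.mem_center_iff.mp (hfc (pow_p_mem_frattini hHp y⁻¹)) x⁻¹).symm
  obtain ⟨e, he, hmul⟩ : ∃ e : ℕ, ((p ≠ 2 ∧ e = p) ∨ (p = 2 ∧ e = 4)) ∧
      ∀ x y : H, (x * y) ^ e = x ^ e * y ^ e := by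
    by_cases hp2 : p = 2
    · refine ⟨4, Or.inr ⟨hp2, rfl⟩, fun x y => ?_⟩
      rw [mul_pow_class_two hcl]
      have hc2 : ⁅y⁻¹, x⁻¹⁆ ^ 2 = 1 := by have := hcp x y; rwa [hp2] at this
      have : (4 : ℕ).choose 2 = 2 * 3 := by decide
      rw [this, pow_mul, hc2, one_pow, mul_one]
    · exact ⟨p, Or.inl ⟨hp2, rfl⟩, fun x y => mul_pow_prime_class_two hp.out hp2 hcl x y (hcp x y)⟩
  let φ : H →* H :=
    { toFun := fun x => x ^ e
      map_one' := one_pow e
      map_mul' := hmul }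
  have hmemD : ∀ x : R, x ∈ φ.ker.map H.subtype ↔ x ∈ H ∧ x ^ e = 1 := by
    intro x
    constructor
    · rintro ⟨y, hy, rfl⟩
      refine ⟨y.2, ?_⟩
      have : y ^ e = 1 := hy
      simpa using congrArg Subtype.val this
    · rintro ⟨hx, hxe⟩
      exact ⟨⟨x, hx⟩, Subtype.ext hxe, rfl⟩
  refine ⟨φ.ker.map H.subtype, ?_, ?_, ?_⟩
  · rw [Subgroup.characteristic_iff_map_le]
    intro a x hx
    obtain ⟨y, hy, rfl⟩ := hx
    obtain ⟨hyH, hye⟩ := (hmemD y).1 hy
    refine (hmemD _).2 ⟨char_aut_mem hHc a hyH, ?_⟩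
    show (a y) ^ e = 1
    rw [← map_pow, hye, map_one]
  · intro x hx
    obtain ⟨-, hxe⟩ := (hmemD x).1 hx
    rcases he with ⟨-, rfl⟩ | ⟨h2, rfl⟩
    · exact Or.inl hxe
    · exact Or.inr ⟨h2, hxe⟩
  · intro a ha hfix
    apply Cfsg.Agent.S0121.result hR H hHc h1 h2 h3 a ha
    have hr1 : ∀ x ∈ H, a x ∈ H := fun x hx => char_aut_mem hHc a hx
    have hr2 : ∀ x ∈ H, a.symm x ∈ H := fun x hx => char_aut_mem hHc a.symm hx
    have h5 : restrictAut a H hr1 hr2 = 1 := by
      apply Cfsg.Agent.Lib.Helper11.aut_eq_one_of_fix_omega hHp _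
        (Nat.Coprime.coprime_dvd_left (orderOf_restrictAut_dvd a H hr1 hr2) ha)
      intro x hx
      apply Subtype.ext
      show a x = x
      apply hfix
      refine (hmemD _).2 ⟨x.2, ?_⟩
      have hx' : (x : R) ^ p = 1 ∨ (p = 2 ∧ (x : R) ^ 4 = 1) := by
        rcases hx with hx | ⟨hp2, hx⟩
        · left; simpa using congrArg Subtype.val hx
        · right; exact ⟨hp2, by simpa using congrArg Subtype.val hx⟩
      rcases he with ⟨hp2, rfl⟩ | ⟨hp2, rfl⟩
      · rcases hx' with hx' | ⟨h2', -⟩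
        · exact hx'
        · exact absurd h2' hp2
      · rcases hx' with hx' | ⟨-, hx'⟩
        · rw [hp2] at hx'
          rw [show 4 = 2 * 2 by norm_num, pow_mul, hx', one_pow]
        · exact hx'
    intro x hx
    have := congrArg (fun b : MulAut H => ((b ⟨x, hx⟩ : H) : R)) h5
    exact this

/-- Automorphism form of Thompson's `A × B` lemma with `B = A ≤ D` acting by conjugation: a
`p'`-automorphism of the `p`-group `D` fixing `A` and `C_D(A)` pointwise is trivial. -/
theorem axb_aut {D : Type*} [Group D] [Finite D] {p : ℕ} [Fact p.Prime] (hD : IsPGroup p D)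
    (A : Subgroup D) (ν : MulAut D) (hν : (orderOf ν).Coprime p) (hA : ∀ a ∈ A, ν a = a)
    (hC : ∀ d : D, (∀ a ∈ A, a * d = d * a) → ν d = d) : ν = 1 := by
  let G := D ⋊[MonoidHom.id (MulAut D)] MulAut D
  have hconj : ∀ (μ : MulAut D) (d : D), (SemidirectProduct.inr μ : G) * SemidirectProduct.inl d *
      (SemidirectProduct.inr μ)⁻¹ = SemidirectProduct.inl (μ d) := by
    intro μ d
    rw [← map_inv]
    exact SemidirectProduct.inl_aut (φ := MonoidHom.id (MulAut D)) μ d |>.symm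
  let T : Subgroup G := A.map SemidirectProduct.inl
  let Q : Subgroup G := (SemidirectProduct.inl : D →* G).range
  let N : Subgroup G := Subgroup.zpowers (SemidirectProduct.inr ν : G)
  have hT : IsPGroup p T := (hD.to_subgroup A).map _
  have hQ : IsPGroup p Q := by
    exact IsPGroup.of_surjective hD (SemidirectProduct.inl : D →* G).rangeRestrict
      (MonoidHom.rangeRestrict_surjective _)
  have hN : (Nat.card N).Coprime p := by
    rw [Nat.card_zpowers, orderOf_injective _ SemidirectProduct.inr_injective]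
    exact hν
  have hcomm : ∀ d : D, ν d = d → (SemidirectProduct.inl d : G) * SemidirectProduct.inr ν =
      SemidirectProduct.inr ν * SemidirectProduct.inl d := by
    intro d hd
    have := hconj ν d
    rw [hd] at this
    calc (SemidirectProduct.inl d : G) * SemidirectProduct.inr ν
        = (SemidirectProduct.inr ν * SemidirectProduct.inl d * (SemidirectProduct.inr ν)⁻¹) *
          SemidirectProduct.inr ν := by rw [this]
      _ = _ := by group
  have hGfin : Finite G := Finite.of_equiv _ (SemidirectProduct.equivProd).symm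
  have hQn : Q.Normal := by
    show ((SemidirectProduct.inl : D →* G).range).Normal
    rw [SemidirectProduct.range_inl_eq_ker_rightHom]
    infer_instance
  have key := Cfsg.Agent.Lib.Helper11.thompson_AxB T N hT hN (by
    rw [Subgroup.zpowers_le]
    rw [Subgroup.mem_centralizer_iff]
    rintro _ ⟨a, ha, rfl⟩
    exact hcomm a (hA a ha)) Q hQ (by rw [Subgroup.normalizer_eq_top]; exact le_top)
    (by rw [Subgroup.normalizer_eq_top]; exact le_top) (by
    rw [Subgroup.zpowers_le]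
    rw [Subgroup.mem_centralizer_iff]
    rintro x ⟨⟨d, rfl⟩, hx2⟩
    apply hcomm
    apply hC
    intro a ha
    have := Subgroup.mem_centralizer_iff.1 hx2 (SemidirectProduct.inl a) ⟨a, ha, rfl⟩
    rw [← map_mul, ← map_mul] at this
    exact SemidirectProduct.inl_injective this)
  ext d
  have h1 := Subgroup.mem_centralizer_iff.1 (key (Subgroup.mem_zpowers _))
    (SemidirectProduct.inl d) ⟨d, rfl⟩
  have h2 := hconj ν d
  rw [← h1] at h2
  have h3 : (SemidirectProduct.inl d : G) = SemidirectProduct.inl (ν d) := by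
    rw [← h2]; group
  exact (SemidirectProduct.inl_injective h3).symm

variable {Ω : Type*} [Group Ω] {S : Subgroup Ω}

/-- Ambient form of `exists_char_small`. -/
theorem exists_small_sub {p : ℕ} [Fact p.Prime] (R : Subgroup Ω) [Finite R] (hR : IsPGroup p R) :
    ∃ D : Subgroup Ω, D ≤ R ∧ (∀ x ∈ D, Small p x) ∧
      (∀ (a : MulAut R) (x : R), (x : Ω) ∈ D → ((a x : R) : Ω) ∈ D) ∧
      ∀ a : MulAut R, (orderOf a).Coprime p → (∀ x : R, (x : Ω) ∈ D → a x = x) → a = 1 := by
  obtain ⟨D, hDc, hDs, hDf⟩ := exists_char_small hR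
  refine ⟨D.map R.subtype, ?_, ?_, ?_, ?_⟩
  · rintro _ ⟨x, -, rfl⟩; exact x.2
  · rintro _ ⟨x, hx, rfl⟩
    rcases hDs x hx with h | ⟨h2, h⟩
    · left; simpa using congrArg Subtype.val h
    · right; exact ⟨h2, by simpa using congrArg Subtype.val h⟩
  · rintro a x ⟨y, hy, hyx⟩
    have : y = x := Subtype.ext hyx
    subst this
    exact ⟨a y, char_aut_mem hDc a hy, rfl⟩
  · intro a ha hfix
    exact hDf a ha (fun x hx => hfix x ⟨x, hx, rfl⟩)

/-- `x⁻¹ γ(x)` lies in the hyperfocal subgroup for a `p'`-element `γ` of `Aut_F(P)`. -/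
theorem hyperfocal_comm {F : FusionSystem S} {p : ℕ} {P : Subgroup Ω} (hP : P ≤ S)
    {γ : MulAut P} (hγ : γ ∈ F.autGroup P) (hco : (orderOf γ).Coprime p) {x : Ω} (hx : x ∈ P) :
    x⁻¹ * autFun γ x ∈ F.hyperfocalSubgroup p := by
  have hres : (⟨γ, hγ⟩ : F.autGroup P) ∈ pResidual p (F.autGroup P) := by
    apply Subgroup.subset_closure
    show Nat.Coprime (orderOf (⟨γ, hγ⟩ : F.autGroup P)) p
    rw [Subgroup.orderOf_mk]; exact hco
  have := mem_hyperfocal_of hP hres ⟨x, hx⟩
  rw [autFun_apply γ hx]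
  exact this

/-- For `P ≤ S` and a strongly closed `H` containing `[P, γ]` for all `p'`-elements `γ` of
`Aut_F(P)`: a subgroup `D ≤ P ∩ H` of small exponent, invariant under `Aut_F(P)`, on which the
`p'`-elements of `Aut_F(P)` act faithfully. -/
theorem exists_small_invariant [Finite S] {p : ℕ} [Fact p.Prime] (hS : IsPGroup p S)
    {F : FusionSystem S} {P : Subgroup Ω} (hP : P ≤ S) {H : Subgroup Ω} (hH : F.StronglyClosed H)
    (hcomm : ∀ γ ∈ F.autGroup P, (orderOf γ).Coprime p → ∀ x ∈ P, x⁻¹ * autFun γ x ∈ H) :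
    ∃ D : Subgroup Ω, D ≤ P ∧ D ≤ H ∧ (∀ x ∈ D, Small p x) ∧
      (∀ γ ∈ F.autGroup P, ∀ x ∈ D, autFun γ x ∈ D) ∧
      ∀ γ ∈ F.autGroup P, (orderOf γ).Coprime p → (∀ x ∈ D, autFun γ x = x) → γ = 1 := by
  have hfin : Finite (P ⊓ H : Subgroup Ω) := Lib.Helper90.finite_of_le (inf_le_left.trans hP)
  have hPp : IsPGroup p P := hS.to_le hP
  obtain ⟨D, hDR, hDs, hDi, hDf⟩ := exists_small_sub (P ⊓ H) (hPp.to_le inf_le_left)
  have hinv : ∀ γ ∈ F.autGroup P, ∀ x ∈ P ⊓ H, autFun γ x ∈ P ⊓ H := by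
    intro γ hγ x hx
    exact ⟨autFun_mem γ hx.1,
      stronglyClosed_mor' hH ((mem_autGroup_iff F hP γ).1 hγ) x hx.1 hx.2⟩
  refine ⟨D, hDR.trans inf_le_left, hDR.trans inf_le_right, hDs, ?_, ?_⟩
  · intro γ hγ x hx
    obtain ⟨γ₀, h1, -⟩ := exists_restrict (P₀ := P ⊓ H) γ inf_le_left (hinv γ hγ)
    have := hDi γ₀ ⟨x, hDR hx⟩ hx
    rwa [h1] at this
  · intro γ hγ hco hfix
    obtain ⟨γ₀, h1, h2⟩ := exists_restrict (P₀ := P ⊓ H) γ inf_le_left (hinv γ hγ)
    have h3 : γ₀ = 1 := by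
      apply hDf γ₀ (Nat.Coprime.coprime_dvd_left h2 hco)
      intro x hx
      apply Subtype.ext
      rw [h1]
      exact hfix x hx
    apply aut_eq_one_of_fix_comm hPp γ hco
    intro x
    have hx : (x : Ω)⁻¹ * autFun γ x ∈ P ⊓ H :=
      ⟨P.mul_mem (P.inv_mem x.2) (autFun_mem γ x.2), hcomm γ hγ hco x x.2⟩
    have h4 := h1 ⟨_, hx⟩
    rw [h3] at h4
    apply Subtype.ext
    have h5 : ((x⁻¹ * γ x : P) : Ω) = (x : Ω)⁻¹ * autFun γ x := by
      rw [autFun_coe]; rfl
    rw [← autFun_coe, h5]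
    exact h4.symm

end Cfsg.Agent.Lib.Helper90
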