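import Cfsg.Agent.Lib.Helper90.SmallExp
import Cfsg.Agent.Lib.Helper90.FusionNorm
import Cfsg.Agent.Lib.Helper87.FusionGroup
import Cfsg.Agent.Lib.Helper87.Saturated
import Cfsg.Agent.Lib.Helper87.AutSylow

set_option autoImplicit false

namespace Cfsg.Agent.Lib.Helper90

open Cfsg Cfsg.FusionSystem Cfsg.Agent.Lib.Helper87

variable {Ω : Type*} [Group Ω] {S : Subgroup Ω}

/-- In a subgroup `D` normalized by the `p`-group `T ≥ D` there is an abelian `T`-invariant subgroup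
`A` with `C_D(A) ≤ A`. -/
theorem exists_max_abelian [Finite S] {p : ℕ} [Fact p.Prime] (hS : IsPGroup p S)
    {T D : Subgroup Ω} (hT : T ≤ S) (hDT : D ≤ T) (hinv : ∀ t ∈ T, ∀ x ∈ D, t * x * t⁻¹ ∈ D) :
    ∃ A : Subgroup Ω, A ≤ D ∧ (∀ a ∈ A, ∀ b ∈ A, a * b = b * a) ∧
      (∀ t ∈ T, ∀ a ∈ A, t * a * t⁻¹ ∈ A) ∧ ∀ d ∈ D, (∀ a ∈ A, a * d = d * a) → d ∈ A := by
  obtain ⟨A, ⟨hAD, hAab, hAinv⟩, hmax⟩ := exists_max_of_bounded
    (fun A : Subgroup Ω => A ≤ D ∧ (∀ a ∈ A, ∀ b ∈ A, a * b = b * a) ∧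
      (∀ t ∈ T, ∀ a ∈ A, t * a * t⁻¹ ∈ A)) (fun A => Nat.card A) (Nat.card S)
    ⟨⊥, bot_le, by
      intro a ha b hb
      rw [Subgroup.mem_bot.1 ha, Subgroup.mem_bot.1 hb], by
      intro t _ a ha
      rw [Subgroup.mem_bot.1 ha]; simp⟩
    (fun A hA => card_le_of_le' le_rfl (hA.1.trans (hDT.trans hT)))
  refine ⟨A, hAD, hAab, hAinv, ?_⟩
  have hTfin : Finite T := Lib.Helper90.finite_of_le hT
  have hnil : Group.IsNilpotent T := (hS.to_le hT).isNilpotent
  obtain ⟨N, hN⟩ := (Subgroup.isNilpotent_iff_lowerCentralSeries T).1 hnil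
  -- the centralizer of A in D
  have hCinv : ∀ t ∈ T, ∀ d ∈ D, (∀ a ∈ A, a * d = d * a) →
      ∀ a ∈ A, a * (t * d * t⁻¹) = (t * d * t⁻¹) * a := by
    intro t ht d _ hd a ha
    have h1 := hd (t⁻¹ * a * t⁻¹⁻¹) (hAinv t⁻¹ (T.inv_mem ht) a ha)
    rw [inv_inv] at h1
    calc a * (t * d * t⁻¹) = t * ((t⁻¹ * a * t) * d) * t⁻¹ := by group
      _ = t * (d * (t⁻¹ * a * t)) * t⁻¹ := by rw [h1]
      _ = _ := by group
  have key : ∀ n : ℕ, (∀ d ∈ T.lowerCentralSeries n, d ∈ D → (∀ a ∈ A, a * d = d * a) → d ∈ A) →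
      ∀ d ∈ D, (∀ a ∈ A, a * d = d * a) → d ∈ A := by
    intro n
    induction n with
    | zero =>
      intro h d hd hc
      exact h d (hDT hd) hd hc
    | succ n ih =>
      intro h
      apply ih
      intro b hbn hbD hbc
      by_contra hbA
      -- the bigger subgroup
      have hb1 : ∀ t ∈ T, t * b * t⁻¹ * b⁻¹ ∈ A := by
        intro t ht
        apply h
        · rw [Subgroup.lowerCentralSeries_succ]
          have h1 := Subgroup.commutator_mem_commutator hbn ht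
          have h2 := Subgroup.inv_mem _ h1
          rw [commutatorElement_inv] at h2
          exact h2
        · exact D.mul_mem (hinv t ht b hbD) (D.inv_mem hbD)
        · intro a ha
          have h1 := hCinv t ht b hbD hbc a ha
          have h2 : a * b⁻¹ = b⁻¹ * a := by
            have := hbc a ha
            calc a * b⁻¹ = b⁻¹ * (b * a) * b⁻¹ := by group
              _ = b⁻¹ * (a * b) * b⁻¹ := by rw [this]
              _ = _ := by group
          calc a * (t * b * t⁻¹ * b⁻¹) = (a * (t * b * t⁻¹)) * b⁻¹ := by group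
            _ = (t * b * t⁻¹) * (a * b⁻¹) := by rw [h1]; group
            _ = _ := by rw [h2]; group
      have hzA : Subgroup.zpowers b ≤ Subgroup.centralizer (A : Set Ω) := by
        rw [Subgroup.zpowers_le, Subgroup.mem_centralizer_iff]
        exact fun a ha => hbc a ha
      have hAA : A ≤ Subgroup.centralizer (A : Set Ω) := by
        intro a ha
        rw [Subgroup.mem_centralizer_iff]
        exact fun c hc => hAab c hc a ha
      have hzz : Subgroup.zpowers b ≤ Subgroup.centralizer (Subgroup.zpowers b : Set Ω) := by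
        rw [Subgroup.zpowers_le, Subgroup.mem_centralizer_iff]
        intro c hc
        obtain ⟨k, rfl⟩ := Subgroup.mem_zpowers_iff.1 hc
        exact (Commute.zpow_self b k)
      have h1 : A ⊔ Subgroup.zpowers b ≤ Subgroup.centralizer ((A ⊔ Subgroup.zpowers b : Subgroup Ω) : Set Ω) := by
        apply sup_le
        · rw [Subgroup.le_centralizer_iff]
          exact sup_le hAA hzA
        · rw [Subgroup.le_centralizer_iff]
          exact sup_le (Subgroup.le_centralizer_iff.1 hzA) hzz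
      have hlt : A < A ⊔ Subgroup.zpowers b := by
        refine lt_of_le_of_ne le_sup_left (fun he => hbA ?_)
        rw [he]
        exact (le_sup_right : Subgroup.zpowers b ≤ _) (Subgroup.mem_zpowers b)
      have hleD : A ⊔ Subgroup.zpowers b ≤ D := sup_le hAD ((Subgroup.zpowers_le).2 hbD)
      have hfin : Finite (A ⊔ Subgroup.zpowers b : Subgroup Ω) :=
        Lib.Helper90.finite_of_le (hleD.trans (hDT.trans hT))
      have hcard := hmax (A ⊔ Subgroup.zpowers b) ⟨hleD, ?_, ?_⟩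
      · exact absurd (Lib.Helper90.card_lt_of_lt hlt) (not_lt.2 hcard)
      · intro x hx y hy
        exact Subgroup.mem_centralizer_iff.1 (h1 hy) x hx
      · intro t ht x hx
        have hmap : (A ⊔ Subgroup.zpowers b).map (MulAut.conj t).toMonoidHom ≤
            A ⊔ Subgroup.zpowers b := by
          rw [Subgroup.map_sup]
          apply sup_le
          · rintro _ ⟨a, ha, rfl⟩
            exact (le_sup_left : A ≤ _) (hAinv t ht a ha)
          · rw [MonoidHom.map_zpowers, Subgroup.zpowers_le]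
            show t * b * t⁻¹ ∈ _
            have h3 : t * b * t⁻¹ = (t * b * t⁻¹ * b⁻¹) * b := by group
            rw [h3]
            exact Subgroup.mul_mem _ ((le_sup_left : A ≤ _) (hb1 t ht))
              ((le_sup_right : Subgroup.zpowers b ≤ _) (Subgroup.mem_zpowers b))
        exact hmap ⟨x, hx, rfl⟩
  apply key N
  intro d hd _ _
  rw [hN] at hd
  rw [Subgroup.mem_bot.1 hd]
  exact A.one_mem

/-- Conjugation by an element of `N_S(P)` as an element of `Aut_S(P)`. -/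
theorem exists_conj_aut {P : Subgroup Ω} {t : Ω} (ht : t ∈ normalizerIn S P) :
    ∃ δ ∈ autInducedBy S P, ∀ x : P, ((δ x : P) : Ω) = t * x * t⁻¹ := by
  have hn := ((mem_normalizerIn_iff S P t).1 ht).2
  let δ : MulAut P :=
    { toFun := fun x => ⟨t * x * t⁻¹, (hn x).1 x.2⟩
      invFun := fun x => ⟨t⁻¹ * x * t, by
        rw [hn]
        have : t * (t⁻¹ * (x : Ω) * t) * t⁻¹ = x := by group
        rw [this]; exact x.2⟩
      left_inv := fun x => Subtype.ext (by show t⁻¹ * (t * (x : Ω) * t⁻¹) * t = x; group)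
      right_inv := fun x => Subtype.ext (by show t * (t⁻¹ * (x : Ω) * t) * t⁻¹ = x; group)
      map_mul' := fun x y => Subtype.ext (by
        show t * ((x : Ω) * y) * t⁻¹ = (t * x * t⁻¹) * (t * y * t⁻¹); group) }
  exact ⟨δ, (mem_autInducedBy_iff S P δ).2 ⟨t, ((mem_normalizerIn_iff S P t).1 ht).1, fun _ => rfl⟩,
    fun _ => rfl⟩

/-- For a fully normalized `P`: an abelian subgroup `A ≤ P ∩ H` of small exponent, normalized by
`N_S(P)`, such that every element of `Aut_F(P)` fixing `A` pointwise lies in `Aut_S(P)`. -/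
theorem exists_control_sub [Finite S] {p : ℕ} [Fact p.Prime] (hS : IsPGroup p S)
    {F : FusionSystem S} (hF : F.IsSaturated p) {P : Subgroup Ω} (hPn : F.IsFullyNormalized P)
    {H : Subgroup Ω} (hH : F.StronglyClosed H)
    (hcomm : ∀ γ ∈ F.autGroup P, (orderOf γ).Coprime p → ∀ x ∈ P, x⁻¹ * autFun γ x ∈ H) :
    ∃ A : Subgroup Ω, A ≤ P ∧ A ≤ H ∧ (∀ a ∈ A, ∀ b ∈ A, a * b = b * a) ∧ (∀ a ∈ A, Small p a) ∧
      (∀ t ∈ normalizerIn S P, ∀ a ∈ A, t * a * t⁻¹ ∈ A) ∧
      ∀ ν ∈ F.autGroup P, (∀ a ∈ A, autFun ν a = a) → ν ∈ autInducedBy S P := by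
  have hP : P ≤ S := hPn.1
  have hfin : Finite P := Lib.Helper90.finite_of_le hP
  obtain ⟨D, hDP, hDH, hDs, hDi, hDf⟩ := exists_small_invariant hS hP hH hcomm
  have hDfin : Finite D := Lib.Helper90.finite_of_le (hDP.trans hP)
  have hDp : IsPGroup p D := hS.to_le (hDP.trans hP)
  have hinv : ∀ t ∈ normalizerIn S P, ∀ x ∈ D, t * x * t⁻¹ ∈ D := by
    intro t ht x hx
    obtain ⟨δ, hδ, hδ'⟩ := exists_conj_aut ht
    have := hDi δ (autInducedBy_le_autGroup F hP hδ) x hx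
    rwa [autFun_apply δ (hDP hx), hδ'] at this
  obtain ⟨A, hAD, hAab, hAinv, hAc⟩ := exists_max_abelian hS (normalizerIn_le S P)
    (hDP.trans (le_normalizerIn hP)) hinv
  refine ⟨A, hAD.trans hDP, hAD.trans hDH, hAab, fun a ha => hDs a (hAD ha), hAinv, ?_⟩
  let B : Subgroup (MulAut P) :=
    { carrier := {ν | ν ∈ F.autGroup P ∧ ∀ x : P, (x : Ω) ∈ A → ν x = x}
      one_mem' := ⟨Subgroup.one_mem _, fun _ _ => rfl⟩
      mul_mem' := by
        rintro a b ⟨ha, ha'⟩ ⟨hb, hb'⟩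
        refine ⟨Subgroup.mul_mem _ ha hb, fun x hx => ?_⟩
        rw [MulAut.mul_apply, hb' x hx, ha' x hx]
      inv_mem' := by
        rintro a ⟨ha, ha'⟩
        refine ⟨Subgroup.inv_mem _ ha, fun x hx => ?_⟩
        rw [MulAut.inv_apply, MulEquiv.symm_apply_eq, ha' x hx] }
  have hBp : IsPGroup p B := by
    apply Cfsg.Agent.Lib.Helper55.isPGroup_of_forall_coprime_eq_one
    rintro c ⟨hc, hc'⟩ hco
    apply hDf c hc hco
    obtain ⟨c₀, h1, h2⟩ := exists_restrict (P₀ := D) c hDP (hDi c hc)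
    have hfixA : ∀ a ∈ A, autFun c a = a := by
      intro a ha
      rw [autFun_apply c (hDP (hAD ha)), hc' ⟨a, _⟩ ha]
    have h3 : c₀ = 1 := by
      apply axb_aut hDp (A.subgroupOf D) c₀ (Nat.Coprime.coprime_dvd_left h2 hco)
      · intro a ha
        apply Subtype.ext
        rw [h1]
        exact hfixA a ha
      · intro d hd
        apply Subtype.ext
        rw [h1]
        apply hfixA
        apply hAc d d.2
        intro a ha
        exact congrArg Subtype.val (hd ⟨a, hAD ha⟩ ha)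
    intro x hx
    have h4 := h1 ⟨x, hx⟩
    rw [h3] at h4
    exact h4.symm
  have hΔp : IsPGroup p (autInducedBy S P) := isPGroup_autInducedBy hS P
  have hnorm : ∀ δ ∈ autInducedBy S P, ∀ ν ∈ B, δ * ν * δ⁻¹ ∈ B := by
    rintro δ hδ ν ⟨hν, hν'⟩
    have hδΓ := autInducedBy_le_autGroup F hP hδ
    refine ⟨Subgroup.mul_mem _ (Subgroup.mul_mem _ hδΓ hν) (Subgroup.inv_mem _ hδΓ), fun x hx => ?_⟩
    obtain ⟨g, hg, hg'⟩ := (mem_autInducedBy_iff S P δ⁻¹).1 (Subgroup.inv_mem _ hδ)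
    have hgN : g ∈ normalizerIn S P := by
      refine ⟨hg, ?_⟩
      exact mem_normalizer_of_induces hg'
    have h1 : ((δ⁻¹ x : P) : Ω) ∈ A := by
      rw [hg']; exact hAinv g hgN x hx
    rw [MulAut.mul_apply, MulAut.mul_apply, hν' _ h1]
    simp
  have hΔN : autInducedBy S P ≤ Subgroup.normalizer (B : Set (MulAut P)) := by
    intro δ hδ
    rw [Subgroup.mem_normalizer_iff]
    intro ν
    refine ⟨hnorm δ hδ ν, fun h => ?_⟩
    have := hnorm δ⁻¹ (Subgroup.inv_mem _ hδ) _ h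
    have h2 : δ⁻¹ * (δ * ν * δ⁻¹) * δ⁻¹⁻¹ = ν := by group
    rwa [h2] at this
  have hsyl : IsSylIn p (autInducedBy S P) (F.autGroup P) :=
    (fullyAutomized_iff F p hP).1 (fullyNormalized_fullyAutomized hS hF hPn)
  have hL := hsyl.2.2 (B ⊔ autInducedBy S P) (sup_le (fun ν hν => hν.1) hsyl.1)
    (IsPGroup.to_sup_of_normal_left' hBp hΔp hΔN) le_sup_right
  intro ν hν hfix
  rw [← hL]
  refine (le_sup_left : B ≤ _) ⟨hν, fun x hx => ?_⟩
  apply Subtype.ext
  rw [← autFun_coe]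
  exact hfix x hx

theorem mem_normalizerIn_of_conj {A : Subgroup Ω} {g : Ω} (hg : g ∈ S)
    (h1 : ∀ a ∈ A, g * a * g⁻¹ ∈ A) (h2 : ∀ a ∈ A, g⁻¹ * a * g⁻¹⁻¹ ∈ A) :
    g ∈ normalizerIn S A := by
  rw [mem_normalizerIn_iff]
  refine ⟨hg, fun x => ⟨h1 x, fun hx => ?_⟩⟩
  have := h2 _ hx
  have h3 : g⁻¹ * (g * x * g⁻¹) * g⁻¹⁻¹ = x := by group
  rwa [h3] at this

/-- The key step of the control theorem: `Aut_F(P) ⊆ E` for a fully `F`-normalized `P`, given that
`F`-maps on larger subgroups lie in `E`, and an `N_S(P)`-invariant subgroup `A ≤ P` on which `E`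
and `F` have the same maps and whose pointwise stabilizer in `Aut_F(P)` lies in `Aut_S(P)`. -/
theorem aut_mor_of_control [Finite S] {p : ℕ} [Fact p.Prime] (hS : IsPGroup p S)
    {E F : FusionSystem S} (hE : E.IsSaturated p) (hF : F.IsSaturated p) (hEF : E.IsSubsystemOf F)
    {P : Subgroup Ω} (hPn : F.IsFullyNormalized P)
    (IH : ∀ P' : Subgroup Ω, P' ≤ S → Nat.card P < Nat.card P' → ∀ f, Mor F P' f → Mor E P' f)
    {A : Subgroup Ω} (hAP : A ≤ P) (hAinv : ∀ t ∈ normalizerIn S P, ∀ a ∈ A, t * a * t⁻¹ ∈ A)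
    (hAc : ∀ ν ∈ F.autGroup P, (∀ a ∈ A, autFun ν a = a) → ν ∈ autInducedBy S P)
    (hAE : ∀ f, Mor F A f → Mor E A f)
    {h : MulAut P} (hh : h ∈ F.autGroup P) : Mor E P (autFun h) := by
  have hP : P ≤ S := hPn.1
  have hfin : Finite P := Lib.Helper90.finite_of_le hP
  have hA : A ≤ S := hAP.trans hP
  have hmor : Mor F P (autFun h) := (mem_autGroup_iff F hP h).1 hh
  have hiso : Iso F P P (autFun h) := iso_autFun hmor
  have hPNP : P ≤ normalizerIn S P := le_normalizerIn hP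
  have hAinvP : ∀ y ∈ P, ∀ a ∈ A, y * a * y⁻¹ ∈ A := fun y hy => hAinv y (hPNP hy)
  have hPN : P ≤ normalizerIn S A := fun y hy =>
    mem_normalizerIn_of_conj (hP hy) (hAinvP y hy) (hAinvP y⁻¹ (P.inv_mem hy))
  have hAN : A ≤ normalizerIn S A := hAP.trans hPN
  -- step 1
  obtain ⟨A', hconj, hA'n⟩ := exists_fullyNormalized_conj E hA
  obtain ⟨χ, hχ, hχA, -⟩ := exists_mor_normalizer_of_fullyNormalized hS hE hA'n hconj
  have hA'r : E.IsReceptive A' := fullyNormalized_receptive hS hE hA'n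
  have hχP : Mor E P χ := hχ.mono hPN
  -- step 2
  have hEA : Mor E A (autFun h) := hAE _ (hmor.mono hAP)
  have hisoA : Iso E A (img A (autFun h)) (autFun h) := hEA.iso_img
  obtain ⟨g₂, hg₂, hg₂l, hg₂r⟩ := hisoA.symm
  have hisoχ : Iso E A A' χ := ⟨hχ.mono hAN, hχA⟩
  have hiso2 : Iso E (img A (autFun h)) A' (χ ∘ g₂) := hg₂.trans hisoχ
  -- step 3
  have hA₂inv : ∀ g ∈ P, ∀ x ∈ img A (autFun h), g * x * g⁻¹ ∈ img A (autFun h) := by
    intro g hg x hx
    obtain ⟨g', hg', rfl⟩ := hiso.surj hg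
    obtain ⟨a, ha, rfl⟩ := (hEA.mem_img x).1 hx
    rw [← hmor.map_conj hg' (hAP ha)]
    exact (hEA.mem_img _).2 ⟨_, hAinvP g' hg' a ha, rfl⟩
  have hN : P ≤ Subgroup.normalizer ((img A (autFun h) : Subgroup Ω) : Set Ω) := by
    intro g hg
    rw [Subgroup.mem_normalizer_iff]
    intro x
    refine ⟨hA₂inv g hg x, fun hx => ?_⟩
    have := hA₂inv g⁻¹ (P.inv_mem hg) _ hx
    have h3 : g⁻¹ * (g * x * g⁻¹) * g⁻¹⁻¹ = x := by group
    rwa [h3] at this
  obtain ⟨ψ, hψ₀, hψA⟩ := receptive_extend hA'r hiso2 P hP hN (by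
    intro g hg
    obtain ⟨g', hg', rfl⟩ := hiso.surj hg
    refine ⟨χ g', hχP.mem hg', fun x hx => ?_⟩
    have ha : g₂ x ∈ A := hg₂.map_mem hx
    have hx' : autFun h (g₂ x) = x := hg₂r x hx
    show χ (g₂ (autFun h g' * x * (autFun h g')⁻¹)) = χ g' * χ (g₂ x) * (χ g')⁻¹
    rw [← hχP.map_conj hg' (hAP ha)]
    congr 1
    conv_lhs => rw [← hx', ← hmor.map_conj hg' (hAP ha)]
    exact hg₂l _ (hAinvP g' hg' _ ha))
  have hψ : Mor E P ψ := hψ₀.mono le_sup_right
  -- step 4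
  have hω : Mor F P (ψ ∘ autFun h) :=
    hmor.comp (Mor.of_subsystem hEF hψ) (fun x hx => autFun_mem h hx)
  have hωA : ∀ a ∈ A, (ψ ∘ autFun h) a = χ a := by
    intro a ha
    show ψ (autFun h a) = χ a
    rw [hψA _ ((hEA.mem_img _).2 ⟨a, ha, rfl⟩)]
    show χ (g₂ (autFun h a)) = χ a
    rw [hg₂l a ha]
  suffices hωE : Mor E P (ψ ∘ autFun h) by
    have hisoψ : Iso E P (img P ψ) ψ := hψ.iso_img
    obtain ⟨ψ', hψ', hψ'l, -⟩ := hisoψ.symm
    have := hωE.comp hψ'.mor (fun x hx => (hψ.mem_img _).2 ⟨_, autFun_mem h hx, rfl⟩)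
    exact this.congr (fun x hx => hψ'l _ (autFun_mem h hx))
  generalize hωdef : ψ ∘ autFun h = ω at hω hωA ⊢
  -- step 5
  have hisoω : Iso F P (img P ω) ω := hω.iso_img
  obtain ⟨θ, hθ, hθl, hθr⟩ := hisoω.symm
  have hP₂ : img P ω ≤ S := hω.img_le
  have hPr : F.IsReceptive P := fullyNormalized_receptive hS hF hPn
  by_cases hex : ∃ y ∈ normalizerIn S (img P ω), y ∉ img P ω ∧
      ∃ k ∈ S, ∀ x ∈ img P ω, θ (y * x * y⁻¹) = k * θ x * k⁻¹
  · obtain ⟨y, hyN, hyP, k, hk, hk'⟩ := hex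
    obtain ⟨φθ, hφθ, hφθ'⟩ := hθ.mor
    have hext : ∀ x ∈ img P ω, ext φθ x = θ x := fun x hx => by rw [ext_apply φθ hx, hφθ']
    have hconjmem : ∀ g ∈ Subgroup.normalizer ((img P ω : Subgroup Ω) : Set Ω), ∀ x ∈ img P ω,
        g * x * g⁻¹ ∈ img P ω := fun g hg x hx => (Subgroup.mem_normalizer_iff.1 hg x).1 hx
    obtain ⟨θ', hθ', hθ'e⟩ := receptive_extend hPr hθ (extender S (img P ω) φθ)
      ((extender_le _ _ _).trans (normalizerIn_le _ _))
      ((extender_le _ _ _).trans inf_le_right) (by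
        intro g hg
        obtain ⟨-, hgn, k', hk', hk''⟩ := (mem_extender_ext_iff S _ φθ g).1 hg
        refine ⟨k', hk', fun x hx => ?_⟩
        rw [← hext x hx, ← hext _ (hconjmem g hgn x hx)]
        exact hk'' x hx)
    have hyE : y ∈ extender S (img P ω) φθ := by
      rw [mem_extender_ext_iff]
      refine ⟨hyN.1, hyN.2, k, hk, fun x hx => ?_⟩
      rw [hext x hx, hext _ (hconjmem y hyN.2 x hx)]
      exact hk' x hx
    have hle : img P ω ⊔ extender S (img P ω) φθ ≤ S :=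
      sup_le hP₂ ((extender_le _ _ _).trans (normalizerIn_le _ _))
    have hlt : img P ω < img P ω ⊔ extender S (img P ω) φθ := by
      refine lt_of_le_of_ne le_sup_left (fun he => hyP ?_)
      rw [he]; exact (le_sup_right : extender S (img P ω) φθ ≤ _) hyE
    have hfin2 : Finite (img P ω ⊔ extender S (img P ω) φθ : Subgroup Ω) :=
      Lib.Helper90.finite_of_le hle
    have hcard : Nat.card P < Nat.card (img P ω ⊔ extender S (img P ω) φθ : Subgroup Ω) := by
      rw [hisoω.card_eq]; exact Lib.Helper90.card_lt_of_lt hlt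
    have hθE : Mor E (img P ω) θ := ((IH _ hle hcard θ' hθ').mono le_sup_left).congr hθ'e
    have hisoθ : Iso E (img P ω) P θ := ⟨hθE, hθ.2⟩
    obtain ⟨ω', hω', hω'l, -⟩ := hisoθ.symm
    refine hω'.mor.congr (fun x hx => ?_)
    have := hω'l (ω x) (hisoω.map_mem hx)
    rwa [hθl x hx] at this
  · have hno : ∀ y ∈ normalizerIn S (img P ω),
        (∃ k ∈ S, ∀ x ∈ img P ω, θ (y * x * y⁻¹) = k * θ x * k⁻¹) → y ∈ img P ω := by
      intro y hy hk
      by_contra hyP
      exact hex ⟨y, hy, hyP, hk⟩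
    -- 6a
    have hA'P₂ : ∀ a' ∈ A', ∃ a ∈ A, ω a = a' ∧ χ a = a' := by
      intro a' ha'
      obtain ⟨a, ha, rfl⟩ := (hχA a').1 ha'
      exact ⟨a, ha, hωA a ha, rfl⟩
    have hA'le : A' ≤ img P ω := by
      intro a' ha'
      obtain ⟨a, ha, h1, -⟩ := hA'P₂ a' ha'
      rw [← h1]; exact hisoω.map_mem (hAP ha)
    -- 6b
    have h6b : ∀ y ∈ normalizerIn S (img P ω), y ∈ centralizerIn S A' → y ∈ img P ω := by
      intro y hy hyc
      apply hno y hy
      have hcy : Mor F (img P ω) (fun x => y * x * y⁻¹) := mor_conj F hP₂ hy.1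
      have hcymem : ∀ x ∈ img P ω, y * x * y⁻¹ ∈ img P ω :=
        fun x hx => (Subgroup.mem_normalizer_iff.1 hy.2 x).1 hx
      have hν : Mor F P (θ ∘ (fun x => y * x * y⁻¹) ∘ ω) :=
        (hω.comp hcy (fun x hx => hisoω.map_mem hx)).comp hθ.mor
          (fun x hx => hcymem _ (hisoω.map_mem hx))
      have hνiso := hν.iso_self (fun x hx => hθ.map_mem (hcymem _ (hisoω.map_mem hx)))
      obtain ⟨ν, hνΓ, hν'⟩ := hνiso.exists_aut
      have hνS := hAc ν hνΓ (by
        intro a ha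
        rw [autFun_apply ν (hAP ha), hν']
        show θ (y * ω a * y⁻¹) = a
        have h1 : ω a ∈ A' := by rw [hωA a ha]; exact (hχA _).2 ⟨a, ha, rfl⟩
        have h2 := ((mem_centralizerIn_iff S A' y).1 hyc).2 _ h1
        rw [← h2, mul_inv_cancel_right, hθl a (hAP ha)])
      obtain ⟨k, hk, hk'⟩ := (mem_autInducedBy_iff S P ν).1 hνS
      refine ⟨k, hk, fun x hx => ?_⟩
      have h1 := hk' ⟨θ x, hθ.map_mem hx⟩
      rw [hν'] at h1
      have h2 : (θ ∘ (fun x => y * x * y⁻¹) ∘ ω) (θ x) = θ (y * x * y⁻¹) := by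
        show θ (y * ω (θ x) * y⁻¹) = _
        rw [hθr x hx]
      rw [← h2]; exact h1
    -- P₂ normalizes A'
    have hP₂A' : ∀ u ∈ img P ω, ∀ a' ∈ A', u * a' * u⁻¹ ∈ A' := by
      intro u hu a' ha'
      obtain ⟨x, hx, rfl⟩ := hisoω.surj hu
      obtain ⟨a, ha, rfl, -⟩ := hA'P₂ a' ha'
      rw [← hω.map_conj hx (hAP ha), hωA _ (hAinvP x hx a ha)]
      exact (hχA _).2 ⟨_, hAinvP x hx a ha, rfl⟩
    -- 6c
    have h6c : centralizerIn S A' ≤ img P ω := by
      by_contra hnot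
      have hlt : img P ω < img P ω ⊔ centralizerIn S A' := by
        refine lt_of_le_of_ne le_sup_left (fun he => hnot ?_)
        rw [he]; exact le_sup_right
      obtain ⟨g, hgN, hgP⟩ := exists_mem_normalizerIn_not_mem hS
        (sup_le hP₂ (centralizerIn_le S A')) hlt
      obtain ⟨u, hu, c, hc, rfl⟩ := mem_sup_of_normalizes (A := img P ω)
        (B := centralizerIn S A') (by
          intro u hu c hc
          rw [mem_centralizerIn_iff] at hc ⊢
          refine ⟨S.mul_mem (S.mul_mem (hP₂ hu) hc.1) (S.inv_mem (hP₂ hu)), fun a' ha' => ?_⟩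
          have h1 := hc.2 _ (hP₂A' u⁻¹ (Subgroup.inv_mem _ hu) a' ha')
          rw [inv_inv] at h1
          calc a' * (u * c * u⁻¹) = u * ((u⁻¹ * a' * u) * c) * u⁻¹ := by group
            _ = u * (c * (u⁻¹ * a' * u)) * u⁻¹ := by rw [h1]
            _ = _ := by group) hgN.1
      apply hgP
      refine Subgroup.mul_mem _ hu (h6b c ⟨(centralizerIn_le S A') hc, ?_⟩ hc)
      have h1 : u⁻¹ ∈ Subgroup.normalizer ((img P ω : Subgroup Ω) : Set Ω) :=
        Subgroup.le_normalizer (Subgroup.inv_mem _ hu)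
      have h2 := Subgroup.mul_mem _ h1 hgN.2
      rwa [inv_mul_cancel_left] at h2
    -- 7
    have hχC : ∀ c ∈ centralizerIn S A, χ c ∈ centralizerIn S A' := by
      intro c hc
      exact hχ.map_mem_centralizerIn hAN hχA (centralizerIn_le_normalizerIn S A hc)
        ((mem_centralizerIn_iff S A c).1 hc).2
    have hθC : ∀ c ∈ centralizerIn S A', θ c ∈ P ⊓ centralizerIn S A := by
      intro c hc
      have hcP := h6c hc
      refine ⟨hθ.map_mem hcP, ?_⟩
      show θ c ∈ centralizerIn S A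
      rw [mem_centralizerIn_iff]
      refine ⟨hθ.mor.mem hcP, fun a ha => ?_⟩
      have h1 : ω a ∈ A' := by rw [hωA a ha]; exact (hχA _).2 ⟨a, ha, rfl⟩
      have h2 := ((mem_centralizerIn_iff S A' c).1 hc).2 _ h1
      have h3 := congrArg θ h2
      rw [hθ.mor.map_mul (hA'le h1) hcP, hθ.mor.map_mul hcP (hA'le h1), hθl a (hAP ha)] at h3
      exact h3
    have hc1 : Nat.card (centralizerIn S A') ≤ Nat.card (P ⊓ centralizerIn S A : Subgroup Ω) :=
      Helper87.Mor.card_le hθ.mor h6c (inf_le_left.trans hP) hθC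
    have hc2 : Nat.card (P ⊓ centralizerIn S A : Subgroup Ω) ≤ Nat.card (centralizerIn S A) :=
      card_le_of_le' (centralizerIn_le S A) inf_le_right
    have hc3 : Nat.card (centralizerIn S A) ≤ Nat.card (centralizerIn S A') :=
      Helper87.Mor.card_le hχ (centralizerIn_le_normalizerIn S A) (centralizerIn_le S A') hχC
    have hCP : centralizerIn S A ≤ P := by
      have := eq_of_le_of_card_le'' (centralizerIn_le S A)
        (inf_le_right : P ⊓ centralizerIn S A ≤ centralizerIn S A) (hc3.trans hc1)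
      rw [← this]; exact inf_le_left
    have hχsurj := Helper87.Mor.surj_of_card_le hχ (centralizerIn_le_normalizerIn S A)
      (centralizerIn_le S A') hχC (hc1.trans hc2)
    -- 8
    have h8 : ∀ y ∈ P, ∃ y' ∈ P, ω y = χ y' := by
      intro y hy
      have hc : (χ y)⁻¹ * ω y ∈ centralizerIn S A' := by
        rw [mem_centralizerIn_iff]
        refine ⟨S.mul_mem (S.inv_mem (hχP.mem hy)) (hω.mem hy), fun a' ha' => ?_⟩
        obtain ⟨a, ha, h1, h2⟩ := hA'P₂ a' ha'
        have h3 : ω y * a' * (ω y)⁻¹ = χ y * a' * (χ y)⁻¹ := by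
          conv_lhs => rw [← h1]
          conv_rhs => rw [← h2]
          rw [← hω.map_conj hy (hAP ha), ← hχP.map_conj hy (hAP ha), hωA _ (hAinvP y hy a ha)]
        calc a' * ((χ y)⁻¹ * ω y) = (χ y)⁻¹ * (χ y * a' * (χ y)⁻¹) * ω y := by group
          _ = (χ y)⁻¹ * (ω y * a' * (ω y)⁻¹) * ω y := by rw [h3]
          _ = _ := by group
      obtain ⟨c', hc', hcc⟩ := hχsurj _ hc
      refine ⟨y * c', P.mul_mem hy (hCP hc'), ?_⟩
      rw [hχP.map_mul hy (hCP hc'), hcc, mul_inv_cancel_left]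
    -- 9
    have hisoχP : Iso E P (img P χ) χ := hχP.iso_img
    obtain ⟨χ', hχ', hχ'l, hχ'r⟩ := hisoχP.symm
    have hωP₁ : ∀ x ∈ P, ω x ∈ img P χ := by
      intro x hx
      obtain ⟨y', hy', h1⟩ := h8 x hx
      rw [h1]; exact hisoχP.map_mem hy'
    have hν : Mor F P (χ' ∘ ω) := hω.comp (Mor.of_subsystem hEF hχ'.mor) hωP₁
    have hνiso := hν.iso_self (fun x hx => hχ'.map_mem (hωP₁ x hx))
    obtain ⟨ν, hνΓ, hν'⟩ := hνiso.exists_aut
    have hνS := hAc ν hνΓ (by
      intro a ha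
      rw [autFun_apply ν (hAP ha), hν']
      show χ' (ω a) = a
      rw [hωA a ha, hχ'l a (hAP ha)])
    obtain ⟨t, ht, ht'⟩ := (mem_autInducedBy_iff S P ν).1 hνS
    have htP : ∀ x ∈ P, t * x * t⁻¹ ∈ P := by
      intro x hx
      rw [← ht' ⟨x, hx⟩]; exact (ν ⟨x, hx⟩).2
    refine ((mor_conj E hP ht).comp hχP htP).congr (fun x hx => ?_)
    show χ (t * x * t⁻¹) = ω x
    rw [← ht' ⟨x, hx⟩, hν']
    exact hχ'r _ (hωP₁ x hx)

/-- Transport: if `P`, `P'` are `E`-isomorphic to `Q` and `Aut_F(Q) ⊆ E` then every `F`-isomorphism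
`P → P'` lies in `E`. -/
theorem mor_of_aut_mor [Finite S] {E F : FusionSystem S} (hEF : E.IsSubsystemOf F)
    {P P' Q : Subgroup Ω} {κ κ' f : Ω → Ω} (hκ : Iso E P Q κ) (hκ' : Iso E P' Q κ')
    (hf : Iso F P P' f) (hQ : ∀ h ∈ F.autGroup Q, Mor E Q (autFun h)) : Mor E P f := by
  have hfin : Finite Q := Lib.Helper90.finite_of_le hκ.le'
  obtain ⟨κi, hκi, hκil, hκir⟩ := hκ.symm
  obtain ⟨κi', hκi', hκil', hκir'⟩ := hκ'.symm
  have h1 : Iso F Q Q (κ' ∘ f ∘ κi) :=
    ((Iso.of_subsystem hEF hκi).trans hf).trans (Iso.of_subsystem hEF hκ')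
  obtain ⟨h, hh, hh'⟩ := h1.exists_aut
  have h2 : Mor E Q (autFun h) := hQ h hh
  have h3 : Mor E P (κi' ∘ autFun h ∘ κ) :=
    (hκ.mor.comp h2 (fun x hx => hκ.map_mem hx)).comp hκi'.mor
      (fun x hx => autFun_mem h (hκ.map_mem hx))
  refine h3.congr (fun x hx => ?_)
  show κi' (autFun h (κ x)) = f x
  rw [autFun_apply h (hκ.map_mem hx), hh']
  show κi' (κ' (f (κi (κ x)))) = f x
  rw [hκil x hx, hκil' _ (hf.map_mem hx)]

/-- **Small exponent abelian subgroups control fusion** (Benson–Grodal–Henn), relative to a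
strongly closed subgroup `H` containing `[P, γ]` for all `p'`-elements `γ ∈ Aut_F(P)`. -/
theorem subsystem_eq_of_small [Finite S] {p : ℕ} [Fact p.Prime] (hS : IsPGroup p S)
    {E F : FusionSystem S} (hE : E.IsSaturated p) (hF : F.IsSaturated p) (hEF : E.IsSubsystemOf F)
    {H : Subgroup Ω} (hH : F.StronglyClosed H)
    (hcomm : ∀ P : Subgroup Ω, P ≤ S → ∀ γ ∈ F.autGroup P, (orderOf γ).Coprime p →
      ∀ x ∈ P, x⁻¹ * autFun γ x ∈ H)
    (hsmall : ∀ (A : Subgroup Ω) (f : Ω → Ω), A ≤ H → (∀ a ∈ A, ∀ b ∈ A, a * b = b * a) →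
      (∀ a ∈ A, Small p a) → Mor F A f → Mor E A f) :
    ∀ (P : Subgroup Ω) (f : Ω → Ω), Mor F P f → Mor E P f := by
  have key : ∀ (n : ℕ) (P : Subgroup Ω), P ≤ S → Nat.card S - Nat.card P = n →
      ∀ f, Mor F P f → Mor E P f := by
    intro n
    induction n using Nat.strong_induction_on with
    | _ n ih =>
    intro P hP hn f hf
    have hcardle : ∀ R : Subgroup Ω, R ≤ S → Nat.card R ≤ Nat.card S :=
      fun R hR => card_le_of_le' le_rfl hR
    have IH : ∀ P' : Subgroup Ω, P' ≤ S → Nat.card P < Nat.card P' →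
        ∀ f, Mor F P' f → Mor E P' f := by
      intro P' hP' hlt
      have := hcardle P' hP'
      exact ih (Nat.card S - Nat.card P') (by omega) P' hP' rfl
    have hAut : ∀ Q : Subgroup Ω, F.IsFullyNormalized Q → Nat.card Q = Nat.card P →
        ∀ h ∈ F.autGroup Q, Mor E Q (autFun h) := by
      intro Q hQn hQc h hh
      obtain ⟨A, hAQ, hAH, hAab, hAs, hAinv, hAc⟩ := exists_control_sub hS hF hQn hH
        (hcomm Q hQn.1)
      exact aut_mor_of_control hS hE hF hEF hQn (by rw [hQc]; exact IH) hAQ hAinv hAc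
        (fun f hf => hsmall A f hAH hAab hAs hf) hh
    have hisof : Iso F P (img P f) f := hf.iso_img
    obtain ⟨Q, hPQ, hQn⟩ := exists_fullyNormalized_conj F hP
    have hQc : Nat.card Q = Nat.card P := (isConj_card hPQ).symm
    -- every conjugate of `Q` is `E`-isomorphic to `Q`
    have hiso : ∀ R : Subgroup Ω, F.IsConj R Q → ∃ κ, Iso E R Q κ := by
      intro R hRQ
      have hR : R ≤ S := isConj_le hRQ
      have hRc : Nat.card R = Nat.card P := (isConj_card hRQ).trans hQc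
      by_cases hRS : R = S
      · have hQS : Q = S := by
          apply eq_of_le_of_card_le'' le_rfl hQn.1
          rw [← isConj_card hRQ, hRS]
        rw [hRS, hQS]
        exact ⟨id, Iso.refl E le_rfl⟩
      · have hlt : R < S := lt_of_le_of_ne hR hRS
        obtain ⟨κ, hκ, hκQ, -⟩ := exists_mor_normalizer_of_fullyNormalized hS hF hQn hRQ
        have hlt2 := lt_normalizerIn hS hlt
        have hfinN : Finite (normalizerIn S R) := Lib.Helper90.finite_of_le (normalizerIn_le S R)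
        have hκE := IH _ (normalizerIn_le S R) (by
          rw [← hRc]; exact Lib.Helper90.card_lt_of_lt hlt2) κ hκ
        exact ⟨κ, hκE.mono hlt2.le, hκQ⟩
    obtain ⟨κ, hκ⟩ := hiso P hPQ
    obtain ⟨κ', hκ'⟩ := hiso (img P f) (isConj_trans (isConj_symm hisof.isConj) hPQ)
    exact mor_of_aut_mor hEF hκ hκ' hisof (hAut Q hQn hQc)
  intro P f hf
  exact key _ P hf.le rfl f hf

end Cfsg.Agent.Lib.Helper90
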