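import Cfsg.Agent.Lib.Helper11.OmegaAut
import Cfsg.Agent.Lib.Helper55.CharP
import Cfsg.Agent.Lib.Helper87.Hyperfocal
import Cfsg.Agent.Lib.Helper90.FusionExtra

set_option autoImplicit false

namespace Cfsg.Agent.Lib.Helper90

open Cfsg Cfsg.FusionSystem Cfsg.Agent.Lib.Helper87

variable {Ω : Type*} [Group Ω] {S : Subgroup Ω}

/-- Restriction of an automorphism of `P` to an invariant finite subgroup `P₀ ≤ P`. -/
theorem exists_restrict {P P₀ : Subgroup Ω} [Finite P₀] (α : MulAut P) (h0 : P₀ ≤ P)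
    (hinv : ∀ x ∈ P₀, autFun α x ∈ P₀) :
    ∃ α₀ : MulAut P₀, (∀ x : P₀, ((α₀ x : P₀) : Ω) = autFun α x) ∧ orderOf α₀ ∣ orderOf α := by
  let φ : P₀ →* P₀ :=
    { toFun := fun x => ⟨autFun α x, hinv x x.2⟩
      map_one' := by
        apply Subtype.ext
        show autFun α ((1 : P₀) : Ω) = 1
        rw [autFun_apply α (h0 (1 : P₀).2)]
        have : (⟨((1 : P₀) : Ω), h0 (1 : P₀).2⟩ : P) = 1 := rfl
        rw [this, map_one]; rfl
      map_mul' := by
        intro x y
        apply Subtype.ext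
        show autFun α ((x * y : P₀) : Ω) = autFun α x * autFun α y
        rw [autFun_apply α (h0 (x * y).2), autFun_apply α (h0 x.2), autFun_apply α (h0 y.2)]
        have : (⟨((x * y : P₀) : Ω), h0 (x * y).2⟩ : P) = ⟨x, h0 x.2⟩ * ⟨y, h0 y.2⟩ := rfl
        rw [this, map_mul]; rfl }
  have hinj : Function.Injective φ := by
    intro x y hxy
    have h1 : autFun α x = autFun α y := congrArg Subtype.val hxy
    rw [autFun_apply α (h0 x.2), autFun_apply α (h0 y.2)] at h1
    have h2 := α.injective (Subtype.ext h1)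
    exact Subtype.ext (congrArg (fun z : P => (z : Ω)) h2)
  have hbij : Function.Bijective φ := ⟨hinj, Finite.surjective_of_injective hinj⟩
  let α₀ : MulAut P₀ := MulEquiv.ofBijective φ hbij
  have hα₀ : ∀ x : P₀, ((α₀ x : P₀) : Ω) = autFun α x := fun x => rfl
  have hpow : ∀ (k : ℕ) (x : P₀), (((α₀ ^ k) x : P₀) : Ω) = ((α ^ k) ⟨x, h0 x.2⟩ : P) := by
    intro k
    induction k with
    | zero => intro x; simp
    | succ k ih =>
      intro x
      rw [pow_succ, pow_succ, MulAut.mul_apply, MulAut.mul_apply, ih]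
      congr 2
      apply Subtype.ext
      show ((α₀ x : P₀) : Ω) = _
      rw [hα₀, autFun_apply α (h0 x.2)]
  refine ⟨α₀, hα₀, orderOf_dvd_of_pow_eq_one ?_⟩
  ext x
  rw [hpow, pow_orderOf_eq_one]
  rfl

/-- Restriction inside a fusion system. -/
theorem exists_restrict_aut [Finite S] {F : FusionSystem S} {P P₀ : Subgroup Ω} (hP : P ≤ S)
    {α : MulAut P} (hα : α ∈ F.autGroup P) (h0 : P₀ ≤ P) (hinv : ∀ x ∈ P₀, autFun α x ∈ P₀) :
    ∃ α₀ ∈ F.autGroup P₀, (∀ x : P₀, ((α₀ x : P₀) : Ω) = autFun α x) ∧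
      orderOf α₀ ∣ orderOf α := by
  have : Finite P₀ := Lib.Helper90.finite_of_le (h0.trans hP)
  obtain ⟨α₀, h1, h2⟩ := exists_restrict α h0 hinv
  refine ⟨α₀, ?_, h1, h2⟩
  rw [mem_autGroup_iff F (h0.trans hP)]
  have hm : Mor F P₀ (autFun α) := ((mem_autGroup_iff F hP α).1 hα).mono h0
  exact hm.congr (fun x hx => by rw [autFun_apply α₀ hx, h1])

/-- A `p'`-automorphism of a `p`-group `P` which fixes pointwise a set containing all `x⁻¹ α(x)`
is trivial. -/
theorem aut_eq_one_of_fix_comm {p : ℕ} {P : Subgroup Ω} (hPp : IsPGroup p P) (α : MulAut P)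
    (hα : (orderOf α).Coprime p) (hfix : ∀ x : P, α (x⁻¹ * α x) = x⁻¹ * α x) : α = 1 := by
  ext x
  rw [Cfsg.Agent.Lib.Helper3.aut_fixes_of_coprime hPp α hα x (hfix x)]
  rfl

/-- `x` has order dividing `p`, or dividing `4` when `p = 2`. -/
def Small (p : ℕ) (x : Ω) : Prop := x ^ p = 1 ∨ (p = 2 ∧ x ^ 4 = 1)

theorem Small.map {p : ℕ} {F : FusionSystem S} {P : Subgroup Ω} {f : Ω → Ω} (h : Mor F P f) {x : Ω}
    (hx : x ∈ P) (hs : Small p x) : Small p (f x) := by
  rcases hs with hs | ⟨h2, hs⟩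
  · left; rw [← h.map_pow hx, hs, h.map_one]
  · right; exact ⟨h2, by rw [← h.map_pow hx, hs, h.map_one]⟩

theorem Small.inv {p : ℕ} {x : Ω} (hs : Small p x) : Small p x⁻¹ := by
  rcases hs with hs | ⟨h2, hs⟩
  · left; rw [inv_pow, hs, inv_one]
  · right; exact ⟨h2, by rw [inv_pow, hs, inv_one]⟩

theorem Small.conj {p : ℕ} {x : Ω} (hs : Small p x) (g : Ω) : Small p (g * x * g⁻¹) := by
  rcases hs with hs | ⟨h2, hs⟩
  · left; rw [conj_pow, hs]; group
  · right; exact ⟨h2, by rw [conj_pow, hs]; group⟩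

/-- The order of a nontrivial small element is `p` or `4`. -/
theorem Small.card_zpowers {p : ℕ} [hp : Fact p.Prime] {x : Ω} (hs : Small p x) (hx : x ≠ 1) :
    Nat.card (Subgroup.zpowers x) = p ∨ Nat.card (Subgroup.zpowers x) = 4 := by
  rw [Nat.card_zpowers]
  rcases hs with hs | ⟨h2, hs⟩
  · left; exact orderOf_eq_prime hs hx
  · subst h2
    have h1 : orderOf x ∣ 2 ^ 2 := orderOf_dvd_of_pow_eq_one (by norm_num; exact hs)
    obtain ⟨k, hk, hk'⟩ := (Nat.dvd_prime_pow Nat.prime_two).1 h1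
    interval_cases k
    · exact absurd (orderOf_eq_one_iff.1 (by simpa using hk')) hx
    · left; simpa using hk'
    · right; simpa using hk'

/-- A `p'`-automorphism of the `p`-group `P` fixing all small elements of an invariant subgroup `R`
that contains all `x⁻¹ α(x)` is trivial. -/
theorem aut_eq_one_of_fix_small {p : ℕ} [Fact p.Prime] {P : Subgroup Ω} [Finite P]
    (hPp : IsPGroup p P) (α : MulAut P)
    (hα : (orderOf α).Coprime p) (R : Subgroup Ω) (hRinv : ∀ x ∈ P, x ∈ R → autFun α x ∈ R)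
    (hR : ∀ x ∈ P, x⁻¹ * autFun α x ∈ R)
    (hfix : ∀ x ∈ P, x ∈ R → Small p x → autFun α x = x) : α = 1 := by
  have : Finite (P ⊓ R : Subgroup Ω) := Finite.of_injective (Subgroup.inclusion inf_le_left)
    (Subgroup.inclusion_injective _)
  obtain ⟨α₀, h1, h2⟩ := exists_restrict (P₀ := P ⊓ R) α inf_le_left
    (fun x hx => ⟨autFun_mem α hx.1, hRinv x hx.1 hx.2⟩)
  have hp0 : IsPGroup p (P ⊓ R : Subgroup Ω) := hPp.to_le inf_le_left
  have h3 : α₀ = 1 := by
    apply Cfsg.Agent.Lib.Helper11.aut_eq_one_of_fix_omega hp0 α₀ (Nat.Coprime.coprime_dvd_left h2 hα)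
    intro x hx
    apply Subtype.ext
    rw [h1]
    apply hfix x x.2.1 x.2.2
    rcases hx with hx | ⟨hp2, hx⟩
    · left; simpa using congrArg Subtype.val hx
    · right; exact ⟨hp2, by simpa using congrArg Subtype.val hx⟩
  apply aut_eq_one_of_fix_comm hPp α hα
  intro x
  have hx : (x : Ω)⁻¹ * autFun α x ∈ P ⊓ R :=
    ⟨P.mul_mem (P.inv_mem x.2) (autFun_mem α x.2), hR x x.2⟩
  have h4 := h1 ⟨_, hx⟩
  rw [h3] at h4
  apply Subtype.ext
  have h5 : ((x⁻¹ * α x : P) : Ω) = (x : Ω)⁻¹ * autFun α x := by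
    rw [autFun_coe]; rfl
  rw [← autFun_coe, h5]
  exact h4.symm

theorem Mor.map_zpow {F : FusionSystem S} {P : Subgroup Ω} {f : Ω → Ω} (h : Mor F P f) {x : Ω}
    (hx : x ∈ P) (k : ℤ) : f (x ^ k) = (f x) ^ k := by
  cases k with
  | ofNat n => simpa using h.map_pow hx n
  | negSucc n => rw [zpow_negSucc, zpow_negSucc, h.map_inv (P.pow_mem hx _), h.map_pow hx]

/-- A map of a fusion system preserves the closure of a subset of its source that it maps into
that closure. -/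
theorem Mor.closure_invariant {F : FusionSystem S} {P : Subgroup Ω} {f : Ω → Ω} (h : Mor F P f)
    {T : Set Ω} (hT : T ⊆ P) (hinv : ∀ y ∈ T, f y ∈ Subgroup.closure T) :
    ∀ y ∈ Subgroup.closure T, f y ∈ Subgroup.closure T := by
  have hle : Subgroup.closure T ≤ P := (Subgroup.closure_le P).2 hT
  intro y hy
  induction hy using Subgroup.closure_induction with
  | mem x hx => exact hinv x hx
  | one => rw [h.map_one]; exact Subgroup.one_mem _
  | mul x y hx hy ihx ihy => rw [h.map_mul (hle hx) (hle hy)]; exact Subgroup.mul_mem _ ihx ihy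
  | inv x hx ihx => rw [h.map_inv (hle hx)]; exact Subgroup.inv_mem _ ihx

/-- The restriction of a map to the cyclic group generated by an element, as a member of a
`homSet`. -/
theorem Mor.exists_homSet_zpowers {F : FusionSystem S} {P : Subgroup Ω} {f : Ω → Ω} (h : Mor F P f)
    {x : Ω} (hx : x ∈ P) :
    ∃ φ ∈ F.homSet (Subgroup.zpowers x) (Subgroup.zpowers (f x)),
      ∀ a : Subgroup.zpowers x, φ a = f a := by
  have hle : Subgroup.zpowers x ≤ P := (Subgroup.zpowers_le).2 hx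
  obtain ⟨φ, hφ, hφf⟩ := h.mono hle
  refine ⟨φ, ⟨hφ, fun a => ?_⟩, hφf⟩
  obtain ⟨k, hk⟩ := Subgroup.mem_zpowers_iff.1 a.2
  rw [hφf, ← hk, Mor.map_zpow h hx]
  exact Subgroup.zpow_mem_zpowers _ _

/-- A subgroup `P` of the nilpotent group `S` contained in `[P, S]` (in the form: generated by
commutators `⁅x, s⁆` with `x ∈ P`, `s ∈ S`) is trivial. -/
theorem eq_bot_of_le_commutator [Group.IsNilpotent S] {P : Subgroup Ω} (hP : P ≤ S) (T : Set Ω)
    (hT : ∀ y ∈ T, ∃ x ∈ P, ∃ s ∈ S, y = x * s * x⁻¹ * s⁻¹) (hPT : P ≤ Subgroup.closure T) :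
    P = ⊥ := by
  have key : ∀ k : ℕ, P ≤ S.lowerCentralSeries k := by
    intro k
    induction k with
    | zero => exact hP
    | succ k ih =>
      refine hPT.trans ((Subgroup.closure_le _).2 ?_)
      intro y hy
      obtain ⟨x, hx, s, hs, rfl⟩ := hT y hy
      rw [Subgroup.lowerCentralSeries_succ]
      exact Subgroup.commutator_mem_commutator (ih hx) hs
  obtain ⟨n, hn⟩ := (Subgroup.isNilpotent_iff_lowerCentralSeries S).1 inferInstance
  have := key n
  rw [hn] at this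
  exact le_bot_iff.1 this

/-- A `p`-subgroup `C ≤ H` normalized by `H` lies in `O_p(H)`. -/
theorem le_pCore_map {G : Type*} [Group G] {p : ℕ} {H C : Subgroup G} (hCH : C ≤ H)
    (hn : ∀ g ∈ H, ∀ c ∈ C, g * c * g⁻¹ ∈ C) (hC : IsPGroup p C) :
    C ≤ (pCore p H).map H.subtype := by
  have h1 : (C.subgroupOf H).Normal := ⟨fun c hc g => hn g g.2 c hc⟩
  have h2 : IsPGroup p (C.subgroupOf H) := hC.comap_subtype
  have h3 : C.subgroupOf H ≤ pCore p H := le_sSup ⟨h1, h2⟩
  intro c hc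
  exact ⟨⟨c, hCH hc⟩, h3 hc, rfl⟩

/-- A `p`-element normalizing the group generated by an element `x` with `x ^ p = 1`
centralizes `x`. -/
theorem conj_eq_of_pow_eq_one {p : ℕ} [hp : Fact p.Prime] {x g : Ω} (hx : x ^ p = 1) {n : ℕ}
    (hg : g ^ (p ^ n) = 1) (h : g * x * g⁻¹ ∈ Subgroup.zpowers x) : g * x * g⁻¹ = x := by
  have hfo : IsOfFinOrder x := isOfFinOrder_iff_pow_eq_one.2 ⟨p, hp.out.pos, hx⟩
  obtain ⟨k, hk⟩ := Submonoid.mem_powers_iff _ _ |>.1 (hfo.mem_powers_iff_mem_zpowers.2 h)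
  have hj : ∀ j : ℕ, g ^ j * x * (g ^ j)⁻¹ = x ^ (k ^ j) := by
    intro j
    induction j with
    | zero => simp
    | succ j ih =>
      have : g ^ (j + 1) * x * (g ^ (j + 1))⁻¹ = g * (g ^ j * x * (g ^ j)⁻¹) * g⁻¹ := by
        rw [pow_succ']; group
      rw [this, ih, ← conj_pow, ← hk, ← pow_mul, pow_succ']
  have h1 := hj (p ^ n)
  rw [hg] at h1
  have h2 : x ^ (k ^ (p ^ n)) = x ^ k := by
    rw [pow_eq_pow_mod _ hx, pow_eq_pow_mod k hx]
    congr 1
    have : ((k ^ (p ^ n) : ℕ) : ZMod p) = (k : ZMod p) := by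
      push_cast
      exact ZMod.pow_card_pow (k : ZMod p)
    exact (ZMod.natCast_eq_natCast_iff' _ _ _).1 this
  rw [← hk, ← h2, ← h1]
  simp

/-- An element normalizing the group generated by an element `x` with `x ^ 4 = 1` centralizes or
inverts `x`. -/
theorem conj_eq_or_inv_of_pow_four {x g : Ω} (hx : x ^ 4 = 1)
    (h : g * x * g⁻¹ ∈ Subgroup.zpowers x) : g * x * g⁻¹ = x ∨ g * x * g⁻¹ = x⁻¹ := by
  have hfo : IsOfFinOrder x := isOfFinOrder_iff_pow_eq_one.2 ⟨4, by norm_num, hx⟩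
  obtain ⟨k, hk⟩ := Submonoid.mem_powers_iff _ _ |>.1 (hfo.mem_powers_iff_mem_zpowers.2 h)
  rw [pow_eq_pow_mod k hx] at hk
  have hone : g * x * g⁻¹ = 1 → g * x * g⁻¹ = x := by
    intro h1
    have : x = 1 := by
      have h2 : x = g⁻¹ * (g * x * g⁻¹) * g := by group
      rw [h2, h1]; group
    rw [this]; group
  have hk4 : k % 4 < 4 := Nat.mod_lt _ (by norm_num)
  interval_cases hkk : k % 4
  · left; exact hone (by rw [← hk]; simp)
  · left; rw [← hk]; simp
  · left
    apply hone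
    have h2 : (g * x * g⁻¹) ^ 2 = 1 := by rw [← hk, ← pow_mul]; exact hx
    rw [conj_pow] at h2
    have h3 : x ^ 2 = 1 := by
      have h4 : x ^ 2 = g⁻¹ * (g * x ^ 2 * g⁻¹) * g := by group
      rw [h4, h2]; group
    rw [← hk, h3]
  · right
    rw [← hk]
    exact eq_inv_of_mul_eq_one_left (by rw [← pow_succ]; exact hx)

end Cfsg.Agent.Lib.Helper90
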